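import Groth.Agent.GrpdLib.InvAffineDimOne
import Groth.Agent.GrpdLib.NormAffine
import Groth.Agent.GrpdLib.GenericNorm
import Groth.Agent.GrpdLib.RestrictMono
import Groth.Agent.GrpdLib.Restrict
import Groth.Agent.GrpdLib.Saturation
import Groth.Agent.GrpdLib.DimOnePts
import Groth.Agent.AffThick.Components
import Groth.Agent.DimOneAmple.Main

/-!
# Invariant affine opens around finitely many orbits of dimension at most one
-/

set_option autoImplicit false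
set_option linter.style.haveILetI false
set_option maxHeartbeats 800000
set_option backward.isDefEq.respectTransparency false
set_option backward.isDefEq.respectTransparency.types false

universe u

open CategoryTheory CategoryTheory.Limits AlgebraicGeometry TopologicalSpace

namespace Groth.Agent.AlgSpB.CodimOne

open Groth.Agent.GrpdLib Groth.Agent.GrpdLib.Saturation Groth.Agent.GrpdLib.InvAffineDimOne

/-- The core: finitely many orbits of dimension at most one in a noetherian open subscheme of an affine scheme. -/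
theorem exists_invariant_affine_core' {S : Scheme.{u}} (G : Grpd.GroupoidScheme S) [IsFinite G.s]
    {A : Type u} [CommRing A] [IsNoetherianRing A] (jU : G.U ⟶ Spec (CommRingCat.of A))
    [IsOpenImmersion jU] {F : Set G.U} (hF : F.Finite)
    (hdim : ∀ r : G.R, G.s r ∈ F → ringKrullDim (G.U.presheaf.stalk (G.t r)) ≤ 1) :
    ∃ V : G.U.Opens, IsAffineOpen V ∧ F ⊆ V ∧ G.s ⁻¹ᵁ V = G.t ⁻¹ᵁ V := by
  classical
  have : IsLocallyNoetherian G.U := by
    have : IsLocallyNoetherian (Spec (CommRingCat.of A)) := inferInstance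
    exact LocallyOfFiniteType.isLocallyNoetherian jU
  have : IsLocallyNoetherian G.R := LocallyOfFiniteType.isLocallyNoetherian G.s
  have hrel := rel_equivalence G
  obtain ⟨N, hN, hflat⟩ := GenericNorm.exists_flat_nhd G.s
  let O : Set G.U := G.t '' (G.s ⁻¹' F)
  have hO : O.Finite := ((hF.preimage' fun b _ => G.s.finite_preimage_singleton b)).image _
  have hOdim : ∀ x ∈ O, ringKrullDim (G.U.presheaf.stalk x) ≤ 1 := by
    rintro _ ⟨r, hr, rfl⟩; exact hdim r hr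
  have hOcl : ∀ r : G.R, G.s r ∈ O → G.t r ∈ O := by
    rintro r ⟨r₁, hr₁, he⟩
    obtain ⟨m, hm₁, hm₂⟩ := hrel.trans (⟨r, rfl, rfl⟩ : Rel G (G.t r) (G.s r)) ⟨r₁, he, rfl⟩
    exact ⟨m, show G.s m ∈ F from hm₂ ▸ hr₁, hm₁⟩
  -- the saturation of the non-flat locus
  let P : Set G.U := sat G (N : Set G.U)ᶜ
  have hP : IsClosed P := isClosedMap_t G _ (N.2.isClosed_compl.preimage G.s.continuous)
  have hPinv : ∀ r : G.R, G.s r ∈ P ↔ G.t r ∈ P := fun r =>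
    ⟨mem_sat_t G _ r, mem_sat_s G _ r⟩
  have hPN : ∀ x ∈ ((N : Set G.U)ᶜ), x ∈ P := fun x hx => subset_sat G _ hx
  have hPmax : ∀ x ∈ O, x ∈ P → ∀ w ∈ P, w ⤳ x → w = x := by
    intro x hx _ w hw hwx
    obtain ⟨r, hr, hrw⟩ := hw
    obtain ⟨r', hrr', hr'x'⟩ := (isClosedMap_t G).specializingMap (show G.t r ⤳ x by rw [hrw]; exact hwx)
    have hs' : G.s r' ∈ O := by
      have h := hOcl (G.i r') (by rw [s_i_apply, hr'x']; exact hx)
      rwa [t_i_apply] at h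
    by_contra hne
    have hne' : G.s r ≠ G.s r' := by
      intro he
      refine hne ?_
      have : r = r' :=
        (G.s.isDiscrete_preimage_singleton (G.s r')).eq_of_specializes hrr' he rfl
      rw [← hrw, this, hr'x']
    have hmax : ∀ y, y ⤳ G.s r → y = G.s r := fun y hy =>
      DimOneAmple.maximal_of_specializes (hrr'.map G.s.continuous) hne'
        (hOdim _ hs') hy
    exact hr (hN _ hmax)
  -- the reduced groupoid on `P`
  let κ := (Scheme.IdealSheafData.vanishingIdeal ⟨P, hP⟩).subschemeι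
  have hκ : Set.range κ = P := by
    rw [Scheme.IdealSheafData.range_subschemeι, Scheme.IdealSheafData.coe_support_vanishingIdeal]
    rfl
  let G' := restrictMono G κ
  have : IsFinite G'.s := by
    show IsFinite (rmS G κ)
    haveI : IsFinite (pullback.fst G.t κ ≫ G.s) := inferInstance
    exact MorphismProperty.pullback_snd _ _ inferInstance
  have : IsLocallyNoetherian G'.U := LocallyOfFiniteType.isLocallyNoetherian κ
  let jP : G'.U ⟶ Spec (CommRingCat.of A) := κ ≫ jU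
  let Z₀ : Set (PrimeSpectrum A) := (Set.range jU)ᶜ
  have hZ₀ : IsClosed Z₀ := jU.isOpenEmbedding.isOpen_range.isClosed_compl
  let I := PrimeSpectrum.vanishingIdeal Z₀
  have hIZ : PrimeSpectrum.zeroLocus (I : Set A) = Z₀ := by
    rw [PrimeSpectrum.zeroLocus_vanishingIdeal_eq_closure, hZ₀.closure_eq]
  have hclP : IsClosed (Z₀ ∪ jU '' P) := by
    rw [← isOpen_compl_iff]
    have : (Z₀ ∪ jU '' P)ᶜ = jU '' Pᶜ := by
      rw [Set.compl_union, Set.image_compl_eq_range_sdiff_image jU.isOpenEmbedding.injective, compl_compl]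
      rfl
    rw [this]
    exact jU.isOpenEmbedding.isOpenMap _ hP.isOpen_compl
  have hrange : Set.range jP = jU '' P := by
    rw [show Set.range jP = Set.range (jU ∘ κ) from congrArg Set.range (funext fun x => Scheme.Hom.comp_apply κ jU x),
      Set.range_comp, hκ]
  obtain ⟨h₁, hh₁, -, hTh, hh₁inv⟩ := GenericNorm.exists_invariant_basicOpen I G' jP
    (fun x hx => by
      rw [hIZ] at hx
      exact hx ⟨κ x, (Scheme.Hom.comp_apply κ jU x).symm⟩)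
    (by rw [hIZ, hrange]; exact hclP) (T := κ ⁻¹' O) (hO.preimage κ.isEmbedding.injective.injOn)
    (by
      intro y hy r hr x hx
      have hs : G.s (rmι G κ r) = κ y := by
        rw [← Scheme.Hom.comp_apply, rmι_s, Scheme.Hom.comp_apply]
        exact congrArg κ hr
      have ht : G.t (rmι G κ r) = κ (G'.t r) := by
        rw [← Scheme.Hom.comp_apply, rmι_t, Scheme.Hom.comp_apply]
        rfl
      have hO' : κ (G'.t r) ∈ O := ht ▸ hOcl _ (hs ▸ hy)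
      exact κ.isEmbedding.injective (hPmax _ hO' (hκ.le ⟨_, rfl⟩) _ (hκ.le ⟨x, rfl⟩) (hx.map κ.continuous)))
  have hh₁P : ∀ r : G.R, G.s r ∈ P →
      (h₁ ∈ (jU (G.s r)).asIdeal ↔ h₁ ∈ (jU (G.t r)).asIdeal) := by
    intro r hr
    obtain ⟨x, hx⟩ := hκ.ge hr
    obtain ⟨y, hy⟩ := hκ.ge ((hPinv r).1 hr)
    obtain ⟨w, hw₁, hw₂⟩ := Scheme.Pullback.exists_preimage_pullback (f := G.t) (g := κ) r y hy.symm
    obtain ⟨v, hv₁, hv₂⟩ := Scheme.Pullback.exists_preimage_pullback (f := pullback.fst G.t κ ≫ G.s) (g := κ) w x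
      (by rw [Scheme.Hom.comp_apply, hw₁, hx])
    have h := congrArg (fun O : (rmR G κ).Opens => v ∈ O) hh₁inv
    have hs' : G'.s v = x := hv₂
    have ht' : G'.t v = y := by
      show (pullback.fst (pullback.fst G.t κ ≫ G.s) κ ≫ pullback.snd G.t κ) v = y
      rw [Scheme.Hom.comp_apply, hv₁, hw₂]
    have h' : (G'.s v ∈ jP ⁻¹ᵁ PrimeSpectrum.basicOpen h₁) ↔ (G'.t v ∈ jP ⁻¹ᵁ PrimeSpectrum.basicOpen h₁) :=
      Iff.of_eq h
    rw [hs', ht'] at h'
    have h'' : (h₁ ∉ (jP x).asIdeal) ↔ (h₁ ∉ (jP y).asIdeal) := h'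
    rw [show jP x = jU (G.s r) from (Scheme.Hom.comp_apply κ jU x).trans (congrArg jU hx),
      show jP y = jU (G.t r) from (Scheme.Hom.comp_apply κ jU y).trans (congrArg jU hy)] at h''
    exact not_iff_not.1 h''
  -- adjust off `P`
  let J := PrimeSpectrum.vanishingIdeal (Z₀ ∪ jU '' P)
  have hJI : J ≤ I := PrimeSpectrum.vanishingIdeal_anti_mono Set.subset_union_left
  obtain ⟨e, he, hOh⟩ := AffThick.exists_add_forall_not_mem (I := J) (hO.toFinset.image fun x => (jU x).asIdeal)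
    (fun q hq => by obtain ⟨x, -, rfl⟩ := Finset.mem_image.1 hq; exact (jU x).isPrime) h₁
    (fun q hq hJq => by
      obtain ⟨x, hx, rfl⟩ := Finset.mem_image.1 hq
      rw [Set.Finite.mem_toFinset] at hx
      have h1 : jU x ∈ Z₀ ∪ jU '' P := by
        rw [← hclP.closure_eq, ← PrimeSpectrum.zeroLocus_vanishingIdeal_eq_closure]
        exact hJq
      rcases h1 with h1 | ⟨x', hx', he'⟩
      · exact absurd ⟨x, rfl⟩ h1
      obtain rfl : x' = x := jU.isOpenEmbedding.injective he'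
      obtain ⟨y, hy⟩ := hκ.ge hx'
      have h2 : h₁ ∉ (jP y).asIdeal := hTh (show κ y ∈ O from hy ▸ hx)
      rwa [show jP y = jU x' from (Scheme.Hom.comp_apply κ jU y).trans (congrArg jU hy)] at h2)
  let h : A := h₁ + e
  have hhI : h ∈ I := I.add_mem hh₁ (hJI he)
  have hhP : ∀ x ∈ P, (h ∈ (jU x).asIdeal ↔ h₁ ∈ (jU x).asIdeal) := fun x hx => by
    have he' : e ∈ (jU x).asIdeal :=
      (PrimeSpectrum.mem_vanishingIdeal _ _).1 he _ (Or.inr ⟨x, hx, rfl⟩)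
    exact Ideal.add_mem_iff_left _ he'
  let W₁ : G.U.Opens := jU ⁻¹ᵁ PrimeSpectrum.basicOpen h
  have hW₁ : IsAffineOpen W₁ := by
    refine (IsAffineOpen.Spec_basicOpen (R := CommRingCat.of A) h).preimage_of_isOpenImmersion jU fun q hq => ?_
    by_contra hq'
    exact hq ((PrimeSpectrum.mem_vanishingIdeal _ _).1 hhI q hq')
  have hmemW : ∀ x, x ∈ W₁ ↔ h ∉ (jU x).asIdeal := fun _ => Iff.rfl
  have hOW : O ⊆ W₁ := fun x hx =>
    hOh _ (Finset.mem_image.2 ⟨x, hO.mem_toFinset.2 hx, rfl⟩)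
  let hU : Γ(G.U, ⊤) := jU.appTop ((Scheme.ΓSpecIso (CommRingCat.of A)).inv h)
  have hhU : G.U.basicOpen hU = W₁ := by
    rw [← Scheme.preimage_basicOpen_top, basicOpen_eq_of_affine]
  let R₁ := G.s ⁻¹ᵁ W₁
  let b : Γ(G.R, R₁) := G.R.presheaf.map (homOfLE (le_top : R₁ ≤ ⊤)).op (G.t.appTop hU)
  have hbmem : ∀ r : G.R, r ∈ G.R.basicOpen b ↔ G.s r ∈ W₁ ∧ G.t r ∈ W₁ := fun r => by
    rw [Scheme.basicOpen_res, ← Scheme.preimage_basicOpen_top, hhU]
    rfl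
  let : Algebra Γ(G.U, W₁) Γ(G.R, R₁) := (G.s.app W₁).hom.toAlgebra
  have : Module.Finite Γ(G.U, W₁) Γ(G.R, R₁) := G.s.finite_app W₁ hW₁
  have : IsNoetherianRing Γ(G.U, W₁) := IsLocallyNoetherian.component_noetherian ⟨W₁, hW₁⟩
  have hgd : NormAffine.GoesDown Γ(G.U, W₁) Γ(G.R, R₁) b :=
    goesDown G.s N hflat hW₁ b fun r hr hrb => by
      by_contra hrN
      have hsP : G.s r ∈ P := hPN _ hrN
      have htP : G.t r ∈ P := (hPinv r).1 hsP
      refine hrb ((hbmem r).2 ⟨hr, ?_⟩)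
      rw [hmemW, hhP _ htP, ← hh₁P r hsP, ← hhP _ hsP]
      exact hr
  let V₁ : G.U.Opens := ⟨(G.s '' (G.t ⁻¹' (W₁ : Set G.U)ᶜ))ᶜ,
    (G.s.isClosedMap _ (W₁.2.isClosed_compl.preimage G.t.continuous)).isOpen_compl⟩
  let V : G.U.Opens := W₁ ⊓ V₁
  have hmemV : ∀ x, x ∈ V ↔ x ∈ W₁ ∧ ∀ r : G.R, G.s r = x → G.t r ∈ W₁ := fun x =>
    and_congr_right fun _ =>
      ⟨fun hx r hr => by_contra fun hc => hx ⟨r, hc, hr⟩, fun hx ⟨r, hc, hr⟩ => hc (hx r hr)⟩
  have hR₁ : IsAffineOpen R₁ := hW₁.preimage G.s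
  have haff : IsAffineOpen (hW₁.fromSpec ⁻¹ᵁ V) := by
    refine NormAffine.isAffineOpen_good b hgd _ fun x => ?_
    show hW₁.fromSpec x ∈ V ↔ _
    rw [hmemV]
    have hcomm : ∀ Q : PrimeSpectrum Γ(G.R, R₁), G.s (hR₁.fromSpec Q) =
        hW₁.fromSpec (PrimeSpectrum.comap (G.s.app W₁).hom Q) := fun Q => by
      rw [← Scheme.Hom.comp_apply, ← hW₁.SpecMap_appLE_fromSpec G.s hR₁ le_rfl, Scheme.Hom.appLE_eq_app,
        Scheme.Hom.comp_apply]
      rfl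
    have hbQ : ∀ Q : PrimeSpectrum Γ(G.R, R₁), hR₁.fromSpec Q ∈ G.R.basicOpen b ↔ b ∉ Q.asIdeal := fun Q => by
      show Q ∈ hR₁.fromSpec ⁻¹ᵁ G.R.basicOpen b ↔ _
      rw [hR₁.fromSpec_preimage_basicOpen]
      rfl
    constructor
    · intro hx Q hQ
      have hQ' : PrimeSpectrum.comap (G.s.app W₁).hom Q = x := PrimeSpectrum.ext hQ
      rw [← hbQ, hbmem]
      have hsQ := hcomm Q
      rw [hQ'] at hsQ
      exact ⟨hsQ ▸ hx.1, hx.2 _ hsQ⟩
    · intro hx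
      refine ⟨hW₁.range_fromSpec.le ⟨x, rfl⟩, fun r hr => ?_⟩
      have hrR : r ∈ R₁ := show G.s r ∈ W₁ from hr ▸ hW₁.range_fromSpec.le ⟨x, rfl⟩
      obtain ⟨Q, rfl⟩ := hR₁.range_fromSpec.ge hrR
      rw [hcomm] at hr
      have := hx Q (congrArg PrimeSpectrum.asIdeal (hW₁.fromSpec.isOpenEmbedding.injective hr))
      rw [← hbQ, hbmem] at this
      exact this.2
  refine ⟨V, ?_, fun x hx => (hmemV x).2 ⟨hOW ⟨G.e x, show G.s (G.e x) ∈ F from (s_e_apply G x).symm ▸ hx, t_e_apply G x⟩,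
    fun r hr => hOW ⟨r, show G.s r ∈ F from hr.symm ▸ hx, rfl⟩⟩, ?_⟩
  · have := haff.image_of_isOpenImmersion hW₁.fromSpec
    rwa [Scheme.Hom.image_preimage_eq_opensRange_inf, hW₁.opensRange_fromSpec,
      inf_eq_right.2 inf_le_left] at this
  have hinv : ∀ x y, Rel G x y → x ∈ V → y ∈ V := by
    intro x y hxy hx
    have horb : ∀ z, Rel G z y → z ∈ W₁ := fun z hz => by
      obtain ⟨r, hr₁, hr₂⟩ := hrel.trans hz (hrel.symm hxy)
      rw [← hr₁]; exact ((hmemV x).mp hx).2 r hr₂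
    exact (hmemV y).mpr ⟨horb y (hrel.refl y), fun r hr => horb _ ⟨r, rfl, hr⟩⟩
  ext r
  exact ⟨fun h => hinv _ _ (hrel.symm ⟨r, rfl, rfl⟩) h, fun h => hinv _ _ ⟨r, rfl, rfl⟩ h⟩

/-- A point whose orbit consists of points of dimension at most one lies in an invariant affine open. -/
theorem exists_invariant_affine_of_finite {S : Scheme.{u}} (G : Grpd.GroupoidScheme S)
    [IsFinite G.s] [G.U.IsSeparated] [IsLocallyNoetherian G.U] {F : Set G.U} (hF : F.Finite)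
    (hdim : ∀ r : G.R, G.s r ∈ F → ringKrullDim (G.U.presheaf.stalk (G.t r)) ≤ 1) :
    ∃ W : G.U.Opens, IsAffineOpen W ∧ F ⊆ W ∧ G.s ⁻¹ᵁ W = G.t ⁻¹ᵁ W := by
  have hrel := rel_equivalence G
  obtain ⟨A, hA, hOA⟩ := exists_affine_of_dim_le_one
    (((hF.preimage' fun b _ => G.s.finite_preimage_singleton b)).image G.t) (by
      rintro _ ⟨r, hr, rfl⟩
      exact ⟨inferInstance, hdim r hr⟩)
  let U₀ : G.U.Opens := ⟨(G.t '' (G.s ⁻¹' (A : Set G.U)ᶜ))ᶜ,
    (isClosedMap_t G _ (A.2.isClosed_compl.preimage G.s.continuous)).isOpen_compl⟩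
  have hU₀ : ∀ x, x ∈ U₀ ↔ ∀ r : G.R, G.t r = x → G.s r ∈ A := fun x =>
    ⟨fun h r hr => by_contra fun hc => h ⟨r, hc, hr⟩, fun h ⟨r, hc, hr⟩ => hc (h r hr)⟩
  have hU₀A : U₀ ≤ A := fun x hx => by
    have := (hU₀ x).1 hx (G.e x) (t_e_apply G x)
    rwa [s_e_apply] at this
  have hinv₀ : G.s ⁻¹ᵁ U₀ = G.t ⁻¹ᵁ U₀ := by
    have hinv : ∀ x y, Rel G x y → x ∈ U₀ → y ∈ U₀ := fun x y hxy hx => (hU₀ y).2 fun r hr => by
      obtain ⟨m, hm₁, hm₂⟩ := hrel.trans hxy ⟨r, hr, rfl⟩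
      rw [← hm₂]
      exact (hU₀ x).1 hx m hm₁
    ext r
    exact ⟨fun h => hinv _ _ (hrel.symm ⟨r, rfl, rfl⟩) h, fun h => hinv _ _ ⟨r, rfl, rfl⟩ h⟩
  have huU₀ : F ⊆ U₀ := fun x hx => (hU₀ x).2 fun r hr =>
    hOA ⟨G.i r, show G.s (G.i r) ∈ F from ((s_i_apply G r).trans hr).symm ▸ hx, t_i_apply G r⟩
  let G₁ := restrict G U₀ hinv₀
  have : IsFinite G₁.s := IsZariskiLocalAtTarget.restrict ‹IsFinite G.s› U₀
  have : IsNoetherianRing Γ(G.U, A) := IsLocallyNoetherian.component_noetherian ⟨A, hA⟩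
  have : IsAffine A.toScheme := hA
  let jU : G₁.U ⟶ Spec Γ(G.U, A) := G.U.homOfLE hU₀A ≫ hA.isoSpec.hom
  have hsι : ∀ r : (G.s ⁻¹ᵁ U₀).toScheme, U₀.ι ((G.s ∣_ U₀) r) = G.s r.1 := fun r => by
    rw [← Scheme.Hom.comp_apply, morphismRestrict_ι]; rfl
  have htι : ∀ r : (G.s ⁻¹ᵁ U₀).toScheme,
      U₀.ι (G.t.resLE U₀ (G.s ⁻¹ᵁ U₀) hinv₀.le r) = G.t r.1 := fun r => by
    rw [← Scheme.Hom.comp_apply, Scheme.Hom.resLE_comp_ι]; rfl
  have hdim₁ : ∀ r : G₁.R, G₁.s r ∈ U₀.ι ⁻¹' F →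
      ringKrullDim (G₁.U.presheaf.stalk (G₁.t r)) ≤ 1 := fun r hr => by
    have hs : G.s r.1 ∈ F := hsι r ▸ hr
    have := hdim r.1 hs
    rw [← htι r] at this
    exact (ringKrullDim_eq_of_ringEquiv (asIso (U₀.ι.stalkMap (G₁.t r))).commRingCatIsoToRingEquiv).symm.trans_le this
  obtain ⟨V, hV, huV, hVinv⟩ := exists_invariant_affine_core' G₁ (A := Γ(G.U, A)) jU (hF.preimage U₀.ι.isOpenEmbedding.injective.injOn) hdim₁
  refine ⟨U₀.ι ''ᵁ V, hV.image_of_isOpenImmersion U₀.ι, fun x hx => ⟨⟨x, huU₀ hx⟩, huV hx, rfl⟩, ?_⟩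
  have hmem : ∀ r : G.R, (G.s r ∈ U₀.ι ''ᵁ V ↔ G.t r ∈ U₀.ι ''ᵁ V) := by
    intro r
    constructor
    · rintro ⟨x, hx, hxr⟩
      have hr : r ∈ G.s ⁻¹ᵁ U₀ := show G.s r ∈ U₀ from hxr ▸ x.2
      have h1 : (⟨r, hr⟩ : G.s ⁻¹ᵁ U₀) ∈ G₁.s ⁻¹ᵁ V := by
        have e : G₁.s ⟨r, hr⟩ = x := U₀.ι.isOpenEmbedding.injective ((hsι ⟨r, hr⟩).trans hxr.symm)
        show G₁.s _ ∈ V
        rw [e]; exact hx
      rw [hVinv] at h1
      exact ⟨_, h1, htι ⟨r, hr⟩⟩
    · rintro ⟨x, hx, hxr⟩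
      have hr : r ∈ G.s ⁻¹ᵁ U₀ := by
        rw [hinv₀]
        exact show G.t r ∈ U₀ from hxr ▸ x.2
      have h1 : (⟨r, hr⟩ : G.s ⁻¹ᵁ U₀) ∈ G₁.t ⁻¹ᵁ V := by
        have e : G₁.t ⟨r, hr⟩ = x := U₀.ι.isOpenEmbedding.injective ((htι ⟨r, hr⟩).trans hxr.symm)
        show G₁.t _ ∈ V
        rw [e]; exact hx
      rw [← hVinv] at h1
      exact ⟨_, h1, hsι ⟨r, hr⟩⟩
  ext r
  exact hmem r

end Groth.Agent.AlgSpB.CodimOne
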