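import Groth.Agent.AlgSpB.Open
import Groth.Agent.AlgSpB.Invariant
import Groth.Agent.AlgSpD.HasAt
import Groth.Agent.AlgSp.LocPFin
import Groth.Agent.AlgSp.NoethFib
import Groth.Agent.AlgSp.PointsMor
import Groth.Agent.AlgSp.LimSepAbs
import Groth.Agent.AlgSpSpec.Approx
import Groth.Agent.AlgSpD.ProperMor
import Groth.Agent.AlgSpCov.LocPBasic
import Groth.Agent.AlgSpCov.Instances

/-!
# Quasi-compact neighbourhoods and the source of a finite cover
-/

set_option autoImplicit false
set_option backward.isDefEq.respectTransparency false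
set_option backward.isDefEq.respectTransparency.types false
universe u
open CategoryTheory CategoryTheory.Limits AlgebraicGeometry Topology TopologicalSpace

namespace Groth.Agent.AlgSpB.CodimOne

open _root_.AlgSp

variable {S : Scheme.{u}}

theorem dimLeOne_invariant ⦃U V : Scheme.{u}⦄ (e : U ⟶ V) [Etale e] (u : ↥U) :
    ringKrullDim ↥(U.presheaf.stalk u) ≤ 1 ↔ ringKrullDim ↥(V.presheaf.stalk (e u)) ≤ 1 := by
  rw [Groth.Agent.AlgSpD.ringKrullDim_stalk_eq]

/-- Separated algebraic spaces are quasi-separated. -/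
theorem isQuasiSeparatedSp_of_sep {F : Sp S} (h : IsSeparatedSp F) : IsQuasiSeparatedSp F :=
  Groth.Agent.AlgSp.repWith_mono (fun f (hf : IsClosedImmersion f) => (inferInstance : QuasiCompact f)) h

/-- An open subspace of a separated locally Noetherian space is one. -/
theorem sep_of_open {X X' : Space S} (j : X' ⟶ X) (hj : RepWith @IsOpenImmersion j.hom)
    (hsep : IsSeparatedSp X.obj) (hN : IsLocNoethSp X.obj) : IsSeparatedSp X'.obj ∧ IsLocNoethSp X'.obj := by
  have := mono_of_isOpenImmersion hj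
  refine ⟨MorphismProperty.of_isPullback (isPullback_diag_of_mono j.hom) hsep,
    Groth.Agent.AlgSp.isLocNoethSp_of_lft X'.property X.property j.hom
      (Groth.Agent.AlgSpCov.locP_of_repWith Groth.Agent.AlgSpCov.etaleLocal_locallyOfFiniteType
        (Groth.Agent.AlgSp.repWith_mono (fun f (hf : IsOpenImmersion f) => (inferInstance : LocallyOfFiniteType f)) hj)) hN⟩

/-- Finitely many points lie in a quasi-compact open subspace. -/
theorem exists_qc_open (X : Space S) (s : Finset (Points X.obj)) :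
    ∃ (X' : Space S) (j : X' ⟶ X), RepWith @IsOpenImmersion j.hom ∧ IsQuasiCompactSp X'.obj ∧
      ∀ x ∈ s, x ∈ Set.range (Points.map j.hom) := by
  obtain ⟨U, a, ha, has⟩ := X.property.atlas
  choose u hu using fun x => AlgSpB.surjective_ofPt has x
  have hnb : ∀ x, ∃ W : U.left.Opens, IsAffineOpen W ∧ u x ∈ W := fun x => by
    obtain ⟨_, ⟨W, hW, rfl⟩, hw, -⟩ := U.left.isBasis_affineOpens.exists_subset_of_mem_open
      (Set.mem_univ (u x)) isOpen_univ
    exact ⟨W, hW, hw⟩
  choose W hW huW using hnb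
  let A : Set (Points X.obj) := ⋃ x ∈ s, Points.ofPt a '' (W x : Set U.left)
  have hA : IsOpen A := isOpen_biUnion fun x _ => isOpenMap_ofPt ha _ (W x).2
  have hAc : IsCompact A := s.finite_toSet.isCompact_biUnion fun x _ =>
    (hW x).isCompact.image (Points.continuous_ofPt a)
  obtain ⟨X', j, hj, hr⟩ := exists_openSubspace X hA
  refine ⟨X', j, hj, isQuasiCompactSp_of_range j.hom X.property hj (by rw [hr]; exact hAc), fun x hx => ?_⟩
  rw [hr]
  exact Set.mem_biUnion hx ⟨u x, huW x, hu x⟩

/-- Points of an open subspace have the codimension of their images. -/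
theorem hasAt_of_open {X X' : Space S} (j : X' ⟶ X) (hj : RepWith @IsOpenImmersion j.hom) (x : Points X'.obj)
    (h : HasAt (fun U u => ringKrullDim ↥(U.presheaf.stalk u) ≤ 1) X.obj (Points.map j.hom x)) :
    HasAt (fun U u => ringKrullDim ↥(U.presheaf.stalk u) ≤ 1) X'.obj x := by
  obtain ⟨U, a, u, ha, rfl⟩ := Groth.Agent.AlgSpD.exists_chart X' x
  rw [Points.map_ofPt] at h
  refine ⟨U, a, u, ha, rfl, (Groth.Agent.AlgSpD.hasAt_iff_chart dimLeOne_invariant ?_ u).1 h⟩
  exact (repWith_isMultiplicative (S := S) @Etale).comp_mem _ _ ha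
    (Groth.Agent.AlgSp.repWith_mono (fun f (hf : IsOpenImmersion f) => (inferInstance : Etale f)) hj)

/-- A scheme finite over a separated space is separated. -/
theorem isSeparated_of_finite [S.IsSeparated] {X : Sp S} (hsep : IsSeparatedSp X) {Y : Over S}
    (g : (yon S).obj Y ⟶ X) (hg : RepWith @IsFinite g) : Y.left.IsSeparated := by
  let hB := Groth.Agent.AlgSp.LimSepAbs.isTerminalBase (S := S)
  have h1 : IsSeparatedMor (hB.from X) :=
    (Groth.Agent.AlgSp.LimSepAbs.diag_prop_iff @IsClosedImmersion _ hB (hB.from _)).2 hsep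
  have h2 := Groth.Agent.AlgSpD.isSeparatedMor_comp
    (Groth.Agent.AlgSpSpec.isSeparatedMor_of_affine (IsAlgSpace.yon_obj Y)
      (Groth.Agent.AlgSp.repWith_mono (fun f (hf : IsFinite f) => (inferInstance : IsAffineHom f)) hg)) h1
  rw [hB.hom_ext (g ≫ hB.from X) (hB.from _)] at h2
  have h3 := (Groth.Agent.AlgSp.LimSepAbs.diag_prop_iff @IsClosedImmersion _ hB (hB.from _)).1 h2
  have : IsSeparated Y.hom := (isSeparated_iff _).2 ((repWith_diag_yon_iff _ _).1 h3)
  exact ⟨by rw [show terminal.from Y.left = Y.hom ≫ terminal.from S from terminal.hom_ext _ _]; infer_instance⟩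

/-- A scheme finite over a locally Noetherian space is locally Noetherian. -/
theorem isLocallyNoetherian_of_finite {X : Sp S} (hX : IsAlgSpace X) (hN : IsLocNoethSp X) {Y : Over S}
    (g : (yon S).obj Y ⟶ X) (hg : RepWith @IsFinite g) : IsLocallyNoetherian Y.left :=
  Groth.Agent.AlgSp.isLocallyNoetherian_of_etale_chart (𝟙 _) (AlgSp.repWith_id _ _)
    (Groth.Agent.AlgSp.isLocNoethSp_of_lft (IsAlgSpace.yon_obj Y) hX g
      (Groth.Agent.AlgSpCov.locP_of_repWith Groth.Agent.AlgSpCov.etaleLocal_locallyOfFiniteType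
        (Groth.Agent.AlgSp.repWith_mono (fun f (hf : IsFinite f) => (inferInstance : LocallyOfFiniteType f)) hg)) hN)

/-- The points of a finite cover over a point of codimension at most one have codimension at most one. -/
theorem dim_le_of_finite {X : Sp S} {Y : Over S} (g : (yon S).obj Y ⟶ X) (hg : RepWith @IsFinite g) (y : Y.left)
    (h : HasAt (fun U u => ringKrullDim ↥(U.presheaf.stalk u) ≤ 1) X (Points.ofPt g y)) :
    ringKrullDim ↥(Y.left.presheaf.stalk y) ≤ 1 := by
  obtain ⟨U, a, u, ha, hu, hd⟩ := h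
  obtain ⟨W, r₁, r₂, sq⟩ := AlgSpB.exists_pullback_yon hg.1 a
  obtain ⟨w, hw₁, hw₂⟩ := (ofPt_eq_ofPt_iff sq y u).1 hu.symm
  have : IsFinite r₂.left := hg.2 _ _ _ sq
  have : Etale r₁.left := ha.2 _ _ _ sq.flip
  have hw : ringKrullDim (W.left.presheaf.stalk w) ≤ 1 :=
    (Groth.Agent.AlgSpD.ringKrullDim_stalk_le r₂.left w).trans (by rw [hw₂]; exact hd)
  rw [← hw₁]
  exact (Groth.Agent.AlgSpD.ringKrullDim_stalk_apply_le r₁.left w).trans hw

end Groth.Agent.AlgSpB.CodimOne
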