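import Groth.Agent.AlgSpB.CodimOne.Grpd
import Groth.Agent.AlgSpB.CodimOne.Prep
import Groth.Agent.AlgSpB.KernelPairGrpd
import Groth.Agent.AlgSpB.Chev.Main
import Groth.Agent.AlgSpEN.StrataSq
import Groth.Agent.AlgSpD.IntegralMor
import Groth.Agent.S10048

/-!
# Affine neighbourhoods of points of codimension at most one
-/

set_option autoImplicit false
set_option backward.isDefEq.respectTransparency false
set_option backward.isDefEq.respectTransparency.types false
universe u
open CategoryTheory CategoryTheory.Limits AlgebraicGeometry Topology TopologicalSpace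

namespace Groth.Agent.AlgSpB.CodimOne

open _root_.AlgSp

variable {S : Scheme.{u}}

/-- A finite cover carries invariant opens to open subspaces, and affine ones to affine ones. -/
theorem exists_affine_of_invariant (X : Space S) {Y : Over S} (g : (yon S).obj Y ⟶ X.obj)
    (hg : RepWith @IsFinite g) (hgs : Function.Surjective (Points.map g)) (W : Y.left.Opens) (hW : IsAffineOpen W)
    (hinv : ∀ y y', Points.ofPt g y = Points.ofPt g y' → y ∈ W → y' ∈ W) :
    ∃ (T : Over S) (j : (yon S).obj T ⟶ X.obj), IsAffine T.left ∧ RepWith @IsOpenImmersion j ∧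
      Points.ofPt g '' (W : Set Y.left) ⊆ Set.range (Points.ofPt j) := by
  let A : Set (Points X.obj) := Points.ofPt g '' (W : Set Y.left)
  have hsurj : ∀ x, ∃ y, Points.ofPt g y = x := fun x => by
    obtain ⟨p, hp⟩ := hgs x
    exact ⟨Points.toScheme Y p, by rw [Points.ofPt_eq_map_ofScheme, Points.ofScheme_toScheme]; exact hp⟩
  have hA : IsOpen A := by
    rw [Points.isOpen_iff]
    intro T h
    obtain ⟨P, r₁, r₂, sq⟩ := AlgSpB.exists_pullback_yon hg.1 h
    have : IsFinite r₂.left := hg.2 _ _ _ sq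
    have e : Points.ofPt h ⁻¹' A = (r₂.left '' (r₁.left ⁻¹' (W : Set Y.left)ᶜ))ᶜ := by
      ext t
      constructor
      · rintro ⟨y, hy, hyt⟩ ⟨w, hw, rfl⟩
        refine hw (hinv y _ ?_ hy)
        exact hyt.trans ((ofPt_eq_ofPt_iff sq _ _).2 ⟨w, rfl, rfl⟩).symm
      · intro ht
        obtain ⟨y, hy⟩ := hsurj (Points.ofPt h t)
        refine ⟨y, by_contra fun hyW => ht ?_, hy⟩
        obtain ⟨w, h1, h2⟩ := (ofPt_eq_ofPt_iff sq y t).1 hy
        exact ⟨w, show r₁.left w ∉ W from h1.symm ▸ hyW, h2⟩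
    rw [e]
    exact (r₂.left.isClosedMap _ (W.2.isClosed_compl.preimage r₁.left.continuous)).isOpen_compl
  obtain ⟨X', j, hj, hr⟩ := exists_openSubspace X hA
  have := mono_of_isOpenImmersion hj
  let Wo : Over S := Over.mk (W.ι ≫ Y.hom)
  let ι : Wo ⟶ Y := Over.homMk W.ι rfl
  have hι : RepWith @IsOpenImmersion ((yon S).map ι) := (repWith_yon_map_iff _ _).2 (inferInstanceAs (IsOpenImmersion W.ι))
  have := mono_of_isOpenImmersion hι
  have hιr : ∀ y : Y.left, Points.ofScheme Y y ∈ Set.range (Points.map ((yon S).map ι)) ↔ y ∈ W := fun y => by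
    constructor
    · rintro ⟨p, hp⟩
      have e := congrArg (Points.toScheme Y) hp
      rw [Points.toScheme_ofScheme, ← Points.ofScheme_toScheme Wo p, ← Points.ofPt_eq_map_ofScheme] at e
      rw [← e, Points.toScheme_ofPt]
      exact (Points.toScheme Wo p).2
    · intro hy
      refine ⟨Points.ofScheme Wo ⟨y, hy⟩, ?_⟩
      rw [← Points.ofPt_eq_map_ofScheme, ← Points.ofScheme_toScheme Y (Points.ofPt ((yon S).map ι) _), Points.toScheme_ofPt]
      rfl
  obtain ⟨i, hi⟩ := exists_lift_yon_of_isOpenImmersion hj ((yon S).map ι ≫ g) (by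
    rintro _ ⟨w, rfl⟩
    rw [hr, ofPt_map_comp]
    exact ⟨_, w.2, rfl⟩)
  have hfac : ∀ {Z : Sp S} (a : Z ⟶ (yon S).obj Y) (b : Z ⟶ X'.obj), a ≫ g = b ≫ j.hom →
      ∃ l, l ≫ (yon S).map ι = a := fun a b hab => by
    refine (exists_factor_isOpenImmersion_iff hι a).2 ?_
    rintro _ ⟨z, rfl⟩
    rw [← Points.ofScheme_toScheme Y (Points.map a z), hιr]
    have hz : Points.map g (Points.map a z) ∈ A := by
      rw [← hr, ← Points.map_comp, hab, Points.map_comp]
      exact ⟨_, rfl⟩
    obtain ⟨y, hy, hye⟩ := hz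
    refine hinv y _ ?_ hy
    rw [hye, Points.ofPt_eq_map_ofScheme, Points.ofScheme_toScheme]
  have sq : IsPullback ((yon S).map ι) i g j.hom := by
    refine IsPullback.of_isLimit (h := PullbackCone.IsLimit.mk hi.symm
      (fun c => (hfac c.fst c.snd c.condition).choose) (fun c => (hfac c.fst c.snd c.condition).choose_spec)
      (fun c => ?_) (fun c m h1 _ => ?_))
    · rw [← cancel_mono j.hom, Category.assoc, hi, ← Category.assoc, (hfac c.fst c.snd c.condition).choose_spec]
      exact c.condition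
    · exact (cancel_mono ((yon S).map ι)).1 (h1.trans (hfac c.fst c.snd c.condition).choose_spec.symm)
  have : IsAffine Wo.left := hW
  have hiF : RepWith @IsFinite i := MorphismProperty.of_isPullback sq hg
  obtain ⟨T', hT', ⟨e⟩⟩ := Chev.exists_affine_of_univClosed X' i
    (Groth.Agent.AlgSp.repWith_mono (fun f (hf : IsFinite f) => (inferInstance : UniversallyClosed f)) hiF)
    (MorphismProperty.of_isPullback sq ((Groth.Agent.AlgSp.repWith_surjective_iff g hg.1).2 hgs))
  refine ⟨T', e.hom ≫ j.hom, hT', (MorphismProperty.cancel_left_of_respectsIso (RepWith (S := S) @IsOpenImmersion) e.hom j.hom).2 hj, ?_⟩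
  intro x hx
  obtain ⟨x', hx'⟩ : x ∈ Set.range (Points.map j.hom) := by rw [hr]; exact hx
  refine ⟨Points.toScheme T' (Points.map e.inv x'), ?_⟩
  rw [Points.ofPt_eq_map_ofScheme, Points.ofScheme_toScheme, ← Points.map_comp, e.inv_hom_id_assoc, hx']

/-- Finitely many points of codimension at most one of a Noetherian separated space lie in an affine open. -/
theorem exists_affine_qc [S.IsSeparated] (X : Space S) (hsep : IsSeparatedSp X.obj) (hN : IsLocNoethSp X.obj)
    (hqc : IsQuasiCompactSp X.obj) (s : Finset (Points X.obj))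
    (hs : ∀ x ∈ s, HasAt (fun U u => ringKrullDim ↥(U.presheaf.stalk u) ≤ 1) X.obj x) :
    ∃ (T : Over S) (j : (yon S).obj T ⟶ X.obj), IsAffine T.left ∧ RepWith @IsOpenImmersion j ∧
      ∀ x ∈ s, x ∈ Set.range (Points.ofPt j) := by
  obtain ⟨U, p, hU, hp, hps⟩ := Groth.Agent.AlgSpEN.exists_affine_atlas X hqc
  obtain ⟨Y, g, hgf, hgs, -, -⟩ :=
    Groth.Agent.S10048.result S X hqc (isQuasiSeparatedSp_of_sep hsep) U p hp hps
  have hg : RepWith @IsFinite g := (Groth.Agent.AlgSpD.isFiniteMor_iff g).1 hgf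
  obtain ⟨R, t, sR, sq⟩ := AlgSpB.exists_pullback_yon hg.1 g
  let G := kpGrpd sq
  have : IsFinite G.s := hg.2 _ _ _ sq
  have : G.U.IsSeparated := isSeparated_of_finite hsep g hg
  have : IsLocallyNoetherian G.U := isLocallyNoetherian_of_finite X.property hN g hg
  let F : Set Y.left := Points.ofPt g ⁻¹' s
  have hF : F.Finite := by
    refine (s.finite_toSet.biUnion (t := fun x => Points.ofPt g ⁻¹' {x}) fun x _ => ?_).subset
      fun y hy => Set.mem_biUnion hy rfl
    obtain ⟨V, a, v, -, rfl⟩ := Groth.Agent.AlgSpD.exists_chart X x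
    obtain ⟨P, r₁, r₂, sq'⟩ := AlgSpB.exists_pullback_yon hg.1 a
    have : IsFinite r₂.left := hg.2 _ _ _ sq'
    refine ((r₂.left.finite_preimage_singleton v).image r₁.left).subset fun y hy => ?_
    obtain ⟨w, h1, h2⟩ := (ofPt_eq_ofPt_iff sq' y v).1 hy
    exact ⟨w, h2, h1⟩
  obtain ⟨W, hW, hFW, hinv⟩ := exists_invariant_affine_of_finite G (F := F) hF (fun r hr => by
    have e : Points.ofPt g (t.left r) = Points.ofPt g (sR.left r) := (ofPt_eq_ofPt_iff sq _ _).2 ⟨r, rfl, rfl⟩
    refine dim_le_of_finite g hg _ ?_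
    rw [show Points.ofPt g (G.t r) = Points.ofPt g (sR.left r) from e]
    exact hs _ hr)
  obtain ⟨T, j, hT, hj, hle⟩ := exists_affine_of_invariant X g hg hgs W hW fun y y' e hy => by
    obtain ⟨r, h1, h2⟩ := (ofPt_eq_ofPt_iff sq y y').1 e
    have h : r ∈ G.t ⁻¹ᵁ W := show t.left r ∈ W from h1.symm ▸ hy
    rw [← hinv] at h
    exact h2 ▸ h
  refine ⟨T, j, hT, hj, fun x hx => hle ?_⟩
  obtain ⟨q, hq⟩ := hgs x
  refine ⟨Points.toScheme Y q, hFW (?_ : _ ∈ F), ?_⟩
  · show Points.ofPt g _ ∈ (s : Set _)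
    rw [Points.ofPt_eq_map_ofScheme, Points.ofScheme_toScheme, hq]; exact hx
  · rw [Points.ofPt_eq_map_ofScheme, Points.ofScheme_toScheme, hq]

/-- Finitely many points of codimension at most one of a separated locally Noetherian space lie in an affine open. -/
theorem exists_affine [S.IsSeparated] (X : Space S) (hsep : IsSeparatedSp X.obj) (hN : IsLocNoethSp X.obj)
    (s : Finset (Points X.obj))
    (hs : ∀ x ∈ s, HasAt (fun U u => ringKrullDim ↥(U.presheaf.stalk u) ≤ 1) X.obj x) :
    ∃ (T : Over S) (j : (yon S).obj T ⟶ X.obj), IsAffine T.left ∧ RepWith @IsOpenImmersion j ∧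
      ∀ x ∈ s, x ∈ Set.range (Points.ofPt j) := by
  classical
  obtain ⟨X', j, hj, hqc, hjs⟩ := exists_qc_open X s
  obtain ⟨hsep', hN'⟩ := sep_of_open j hj hsep hN
  have := mono_of_isOpenImmersion hj
  obtain ⟨T, a, hT, ha, hle⟩ := exists_affine_qc X' hsep' hN' hqc
    (s.preimage (Points.map j.hom) (injective_map_of_mono j.hom).injOn)
    (fun x hx => hasAt_of_open j hj x (hs _ (Finset.mem_preimage.1 hx)))
  refine ⟨T, a ≫ j.hom, hT, (repWith_isMultiplicative (S := S) @IsOpenImmersion).comp_mem _ _ ha hj, fun x hx => ?_⟩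
  obtain ⟨x', rfl⟩ := hjs x hx
  obtain ⟨t, rfl⟩ := hle x' (Finset.mem_preimage.2 hx)
  exact ⟨t, (Points.map_ofPt a j.hom t).symm⟩

end Groth.Agent.AlgSpB.CodimOne
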