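import Groth.Agent.AlgSpB.CodimOne.Rel
import Groth.Agent.AlgSp.DescentSepLqf
import Groth.Agent.AlgSpD.OnePoint
import Groth.Agent.MonoVal.Immersion
import Groth.Agent.S10102
import Groth.Agent.S10107

/-!
# Codimension at most one points of quotients by flat equivalence relations
-/

set_option autoImplicit false
set_option backward.isDefEq.respectTransparency false
set_option backward.isDefEq.respectTransparency.types false
universe u
open CategoryTheory CategoryTheory.Limits AlgebraicGeometry Topology TopologicalSpace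

namespace Groth.Agent.AlgSpB.CodimOne

open _root_.AlgSp

variable {S : Scheme.{u}} {Z Y : Over S} {s t : Z ⟶ Y}

theorem isEqvRelSp_of_isEqvRel (h : IsEqvRel s t) : IsEqvRelSp ((yon S).map s) ((yon S).map t) := by
  refine ⟨fun T r r' e1 e2 => ?_, fun T => ⟨fun a => ?_, ?_, ?_⟩⟩
  · obtain ⟨r, rfl⟩ := (yon S).map_surjective r
    obtain ⟨r', rfl⟩ := (yon S).map_surjective r'
    rw [h.injective T r r' ((yon S).map_injective (by rw [Functor.map_comp, Functor.map_comp, e1]))
      ((yon S).map_injective (by rw [Functor.map_comp, Functor.map_comp, e2]))]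
  · obtain ⟨a, rfl⟩ := (yon S).map_surjective a
    obtain ⟨r, h1, h2⟩ := (h.equivalence T).refl a
    exact ⟨(yon S).map r, by rw [← Functor.map_comp, h1], by rw [← Functor.map_comp, h2]⟩
  · rintro a b ⟨r, rfl, rfl⟩
    obtain ⟨r, rfl⟩ := (yon S).map_surjective r
    obtain ⟨q, h1, h2⟩ := (h.equivalence T).symm ⟨r, rfl, rfl⟩
    exact ⟨(yon S).map q, by rw [← Functor.map_comp, h1, Functor.map_comp], by rw [← Functor.map_comp, h2, Functor.map_comp]⟩
  · rintro a b c ⟨r, rfl, rfl⟩ ⟨r', h1, rfl⟩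
    obtain ⟨r, rfl⟩ := (yon S).map_surjective r
    obtain ⟨r', rfl⟩ := (yon S).map_surjective r'
    rw [← Functor.map_comp, ← Functor.map_comp] at h1
    obtain ⟨q, h2, h3⟩ := (h.equivalence T).trans ⟨r, rfl, rfl⟩ ⟨r', (yon S).map_injective h1, rfl⟩
    exact ⟨(yon S).map q, by rw [← Functor.map_comp, h2, Functor.map_comp], by rw [← Functor.map_comp, h3, Functor.map_comp]⟩

/-- The quotient of a scheme by a relation with closed graph is separated. -/
theorem isSeparatedSp_quotSp (hj : IsEqvRelSp ((yon S).map s) ((yon S).map t))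
    (hX : IsAlgSpace (quotSp ((yon S).map s) ((yon S).map t)))
    (hsep : IsClosedImmersion (pullback.lift t.left s.left ((Over.w t).trans (Over.w s).symm) : Z.left ⟶ pullback Y.hom Y.hom)) :
    IsSeparatedSp (quotSp ((yon S).map s) ((yon S).map t)) := by
  let p := quotSpπ ((yon S).map s) ((yon S).map t)
  have := Groth.Agent.AlgSpB.epi_quotSpπ ((yon S).map s) ((yon S).map t)
  have : Sheaf.IsLocallySurjective p := (Sheaf.isLocallySurjective_iff_epi _).2 inferInstance
  have : Sheaf.IsLocallySurjective (prod.map p p) := Groth.Agent.AlgSp.isLocallySurjective_prodMap p p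
  refine Groth.Agent.AlgSp.repWith_of_isPullback_of_isLocallySurjective (Limits.diag _) hX.diag (prod.map p p) _ _
    (Groth.Agent.AlgSp.isPullback_diag_prodMap p (Groth.Agent.AlgSpB.isPullback_quotSpπ hj)) @IsClosedImmersion ?_
  rw [Groth.Agent.AlgSp.prodLift_map]
  refine (MorphismProperty.cancel_right_of_respectsIso _ _ _).2 ((AlgSp.repWith_yon_map_iff _ _).2 ?_)
  have e : (prod.lift t s).left ≫ (Over.prodLeftIsoPullback Y Y).hom =
      pullback.lift t.left s.left ((Over.w t).trans (Over.w s).symm) := by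
    apply pullback.hom_ext
    · rw [Category.assoc, Over.prodLeftIsoPullback_hom_fst, pullback.lift_fst, ← Over.comp_left, prod.lift_fst]
    · rw [Category.assoc, Over.prodLeftIsoPullback_hom_snd, pullback.lift_snd, ← Over.comp_left, prod.lift_snd]
  exact (MorphismProperty.cancel_right_of_respectsIso @IsClosedImmersion _ (Over.prodLeftIsoPullback Y Y).hom).1 (e ▸ hsep)

/-- The quotient of a scheme by a flat relation of finite type over a Noetherian base: points of codimension
at most one have scheme neighbourhoods. -/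
theorem exists_nhd_quot [IsLocallyNoetherian S] [LocallyOfFiniteType Y.hom]
    (hrel : IsEqvRel s t) [Flat s.left] [Flat t.left] [LocallyOfFiniteType s.left] [LocallyOfFiniteType t.left]
    (hsep : IsClosedImmersion (pullback.lift t.left s.left ((Over.w t).trans (Over.w s).symm) : Z.left ⟶ pullback Y.hom Y.hom))
    (y : ↥Y.left) (hy : ringKrullDim ↥(Y.left.presheaf.stalk y) ≤ 1) :
    ∃ (U : Over S) (j : (yon S).obj U ⟶ quotSp ((yon S).map s) ((yon S).map t)),
      RepWith @IsOpenImmersion j ∧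
      Points.ofPt (quotSpπ ((yon S).map s) ((yon S).map t)) y ∈ Set.range (Points.map j) := by
  have : IsLocallyNoetherian Y.left := LocallyOfFiniteType.isLocallyNoetherian Y.hom
  have hj := isEqvRelSp_of_isEqvRel hrel
  have : LocallyOfFinitePresentation s.left := Groth.Agent.MonoVal.locallyOfFinitePresentation_of_lft s.left
  have : LocallyOfFinitePresentation t.left := Groth.Agent.MonoVal.locallyOfFinitePresentation_of_lft t.left
  have hflat : ∀ {φ : Z ⟶ Y}, Flat φ.left → LocallyOfFinitePresentation φ.left →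
      LocP @Flat ((yon S).map φ) ∧ LocP @LocallyOfFinitePresentation ((yon S).map φ) := fun {φ} h1 h2 =>
    ⟨Groth.Agent.AlgSpCov.locP_of_repWith Groth.Agent.AlgSpCov.etaleLocal_flat ((AlgSp.repWith_yon_map_iff _ _).2 h1),
      Groth.Agent.AlgSpCov.locP_of_repWith Groth.Agent.AlgSpCov.etaleLocal_locallyOfFinitePresentation
        ((AlgSp.repWith_yon_map_iff _ _).2 h2)⟩
  have hs := hflat (φ := s) inferInstance inferInstance
  have ht := hflat (φ := t) inferInstance inferInstance
  have hX := Groth.Agent.S10102.result S _ _ (IsAlgSpace.yon_obj Z) (IsAlgSpace.yon_obj Y) _ _ hj hs ht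
  obtain ⟨hπs, hπf, hπp⟩ := Groth.Agent.S10107.result S _ _ (IsAlgSpace.yon_obj Z) (IsAlgSpace.yon_obj Y) _ _ hj hs ht hX
  let X : Space S := ⟨_, hX⟩
  let π : (yon S).obj Y ⟶ X.obj := quotSpπ ((yon S).map s) ((yon S).map t)
  have key : ∀ {U : Over S} (a : (yon S).obj U ⟶ X.obj), RepWith @Etale a →
      ∃ (W : Over S) (r₁ : W ⟶ Y) (r₂ : W ⟶ U), IsPullback ((yon S).map r₁) ((yon S).map r₂) π a ∧
        Etale r₁.left ∧ Flat r₂.left ∧ LocallyOfFinitePresentation r₂.left := fun {U} a ha => by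
    obtain ⟨W, r₁, r₂, sq⟩ := AlgSpB.exists_pullback_yon (X.property.representable_from_yon π) a
    have h1 : Etale r₁.left := ha.2 _ _ _ sq.flip
    have h1' : RepWith @Etale ((yon S).map r₁) := (AlgSp.repWith_yon_map_iff _ _).2 h1
    exact ⟨W, r₁, r₂, sq, h1, hπf _ a r₂ h1' ha sq.w, hπp _ a r₂ h1' ha sq.w⟩
  have hsurj : ∀ x, ∃ z, Points.ofPt π z = x := fun x => by
    obtain ⟨p, hp⟩ := hπs x
    exact ⟨Points.toScheme Y p, by rw [Points.ofPt_eq_map_ofScheme, Points.ofScheme_toScheme]; exact hp⟩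
  have hN : IsLocNoethSp X.obj := by
    obtain ⟨U, a, ha, has⟩ := X.property.atlas
    obtain ⟨W, r₁, r₂, sq, _, _, _⟩ := key a ha
    have : IsLocallyNoetherian W.left := LocallyOfFiniteType.isLocallyNoetherian r₁.left
    have : Surjective r₂.left := ⟨fun u => by
      obtain ⟨z, hz⟩ := hsurj (Points.ofPt a u)
      obtain ⟨w, -, hw⟩ := (ofPt_eq_ofPt_iff sq z u).1 hz
      exact ⟨w, hw⟩⟩
    exact ⟨U, a, ha, has, Groth.Agent.AlgSpD.isLocallyNoetherian_of_fppf r₂.left⟩
  have hx : HasAt (fun U u => ringKrullDim ↥(U.presheaf.stalk u) ≤ 1) X.obj (Points.ofPt π y) := by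
    obtain ⟨U, a, u, ha, hu⟩ := Groth.Agent.AlgSpD.exists_chart X (Points.ofPt π y)
    obtain ⟨W, r₁, r₂, sq, _, _, _⟩ := key a ha
    obtain ⟨w, hw₁, hw₂⟩ := (ofPt_eq_ofPt_iff sq y u).1 hu.symm
    refine ⟨U, a, u, ha, hu, ?_⟩
    rw [← hw₂]
    refine (Groth.Agent.AlgSpD.ringKrullDim_stalk_apply_le r₂.left w).trans ?_
    rw [← Groth.Agent.AlgSpD.ringKrullDim_stalk_eq r₁.left w, hw₁]
    exact hy
  obtain ⟨T, j, -, hjo, hjx⟩ := exists_affine_nhd X (isSeparatedSp_quotSp hj hX hsep) hN _ hx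
  obtain ⟨q, hq⟩ := hjx
  exact ⟨T, j, hjo, Points.ofScheme T q, (Points.ofPt_eq_map_ofScheme j q).symm.trans hq⟩

end Groth.Agent.AlgSpB.CodimOne
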