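import Groth.Agent.AlgSpB.CodimOne.Main

/-!
# Codimension at most one over a base which is not separated
-/

set_option autoImplicit false
set_option backward.isDefEq.respectTransparency false
set_option backward.isDefEq.respectTransparency.types false
universe u
open CategoryTheory CategoryTheory.Limits AlgebraicGeometry Topology TopologicalSpace

namespace Groth.Agent.AlgSpB.CodimOne

open _root_.AlgSp

variable {S : Scheme.{u}}

/-- A scheme finite over a separated space and lying over an affine open of the base is separated. -/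
theorem isSeparated_of_finite_over {X : Sp S} (hsep : IsSeparatedSp X) {V : S.Opens} (hV : IsAffineOpen V) {Y : Over S}
    (g : (yon S).obj Y ⟶ X) (hg : RepWith @IsFinite g) (hY : ∀ y : Y.left, Y.hom y ∈ V) : Y.left.IsSeparated := by
  let hB := Groth.Agent.AlgSp.LimSepAbs.isTerminalBase (S := S)
  have h1 : IsSeparatedMor (hB.from X) :=
    (Groth.Agent.AlgSp.LimSepAbs.diag_prop_iff @IsClosedImmersion _ hB (hB.from _)).2 hsep
  have h2 := Groth.Agent.AlgSpD.isSeparatedMor_comp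
    (Groth.Agent.AlgSpSpec.isSeparatedMor_of_affine (IsAlgSpace.yon_obj Y)
      (Groth.Agent.AlgSp.repWith_mono (fun f (hf : IsFinite f) => (inferInstance : IsAffineHom f)) hg)) h1
  rw [hB.hom_ext (g ≫ hB.from X) (hB.from _)] at h2
  have h3 := (Groth.Agent.AlgSp.LimSepAbs.diag_prop_iff @IsClosedImmersion _ hB (hB.from _)).1 h2
  have : IsSeparated Y.hom := (isSeparated_iff _).2 ((repWith_diag_yon_iff _ _).1 h3)
  have hr : Set.range Y.hom ⊆ Set.range V.ι := by
    rw [Scheme.Opens.range_ι]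
    rintro _ ⟨y, rfl⟩
    exact hY y
  let k := IsOpenImmersion.lift V.ι Y.hom hr
  have hk : k ≫ V.ι = Y.hom := IsOpenImmersion.lift_fac _ _ hr
  have : IsSeparated (k ≫ V.ι) := hk ▸ inferInstance
  have : IsSeparated k := IsSeparated.of_comp k V.ι
  have : IsAffine V.toScheme := hV
  exact ⟨by rw [show terminal.from Y.left = k ≫ terminal.from V.toScheme from terminal.hom_ext _ _]; infer_instance⟩

/-- Finitely many points of codimension at most one of a Noetherian separated space lie in an affine open. -/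
theorem exists_affine_qc_over [QuasiSeparatedSpace ↥S] (X : Space S) (hsep : IsSeparatedSp X.obj) (hN : IsLocNoethSp X.obj)
    (hqc : IsQuasiCompactSp X.obj) {V₀ : S.Opens} (hV₀ : IsAffineOpen V₀)
    (hXV : ∀ {Y : Over S} (_ : (yon S).obj Y ⟶ X.obj) (y : Y.left), Y.hom y ∈ V₀) (s : Finset (Points X.obj))
    (hs : ∀ x ∈ s, HasAt (fun U u => ringKrullDim ↥(U.presheaf.stalk u) ≤ 1) X.obj x) :
    ∃ (T : Over S) (j : (yon S).obj T ⟶ X.obj), IsAffine T.left ∧ RepWith @IsOpenImmersion j ∧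
      ∀ x ∈ s, x ∈ Set.range (Points.ofPt j) := by
  obtain ⟨U, p, hU, hp, hps⟩ := Groth.Agent.AlgSpEN.exists_affine_atlas X hqc
  obtain ⟨Y, g, hgf, hgs, -, -⟩ :=
    Groth.Agent.S10048.result S X hqc (isQuasiSeparatedSp_of_sep hsep) U p hp hps
  have hg : RepWith @IsFinite g := (Groth.Agent.AlgSpD.isFiniteMor_iff g).1 hgf
  obtain ⟨R, t, sR, sq⟩ := AlgSpB.exists_pullback_yon hg.1 g
  let G := kpGrpd sq
  have : IsFinite G.s := hg.2 _ _ _ sq
  have : G.U.IsSeparated := isSeparated_of_finite_over hsep hV₀ g hg (hXV g)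
  have : IsLocallyNoetherian G.U := isLocallyNoetherian_of_finite X.property hN g hg
  let F : Set Y.left := Points.ofPt g ⁻¹' s
  have hF : F.Finite := by
    refine (s.finite_toSet.biUnion (t := fun x => Points.ofPt g ⁻¹' {x}) fun x _ => ?_).subset
      fun y hy => Set.mem_biUnion hy rfl
    obtain ⟨V, a, v, -, rfl⟩ := Groth.Agent.AlgSpD.exists_chart X x
    obtain ⟨P, r₁, r₂, sq'⟩ := AlgSpB.exists_pullback_yon hg.1 a
    have : IsFinite r₂.left := hg.2 _ _ _ sq'
    refine ((r₂.left.finite_preimage_singleton v).image r₁.left).subset fun y hy => ?_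
    obtain ⟨w, h1, h2⟩ := (ofPt_eq_ofPt_iff sq' y v).1 hy
    exact ⟨w, h2, h1⟩
  obtain ⟨W, hW, hFW, hinv⟩ := exists_invariant_affine_of_finite G (F := F) hF (fun r hr => by
    have e : Points.ofPt g (t.left r) = Points.ofPt g (sR.left r) := (ofPt_eq_ofPt_iff sq _ _).2 ⟨r, rfl, rfl⟩
    refine dim_le_of_finite g hg _ ?_
    rw [show Points.ofPt g (G.t r) = Points.ofPt g (sR.left r) from e]
    exact hs _ hr)
  obtain ⟨T, j, hT, hj, hle⟩ := exists_affine_of_invariant X g hg hgs W hW fun y y' e hy => by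
    obtain ⟨r, h1, h2⟩ := (ofPt_eq_ofPt_iff sq y y').1 e
    have h : r ∈ G.t ⁻¹ᵁ W := show t.left r ∈ W from h1.symm ▸ hy
    rw [← hinv] at h
    exact h2 ▸ h
  refine ⟨T, j, hT, hj, fun x hx => hle ?_⟩
  obtain ⟨q, hq⟩ := hgs x
  refine ⟨Points.toScheme Y q, hFW (?_ : _ ∈ F), ?_⟩
  · show Points.ofPt g _ ∈ (s : Set _)
    rw [Points.ofPt_eq_map_ofScheme, Points.ofScheme_toScheme, hq]; exact hx
  · rw [Points.ofPt_eq_map_ofScheme, Points.ofScheme_toScheme, hq]

/-- Finitely many points over one affine open of the base. -/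
theorem exists_affine_nhd [IsLocallyNoetherian S] (X : Space S) (hsep : IsSeparatedSp X.obj) (hN : IsLocNoethSp X.obj)
    (x : Points X.obj) (hx : HasAt (fun U u => ringKrullDim ↥(U.presheaf.stalk u) ≤ 1) X.obj x) :
    ∃ (T : Over S) (j : (yon S).obj T ⟶ X.obj), IsAffine T.left ∧ RepWith @IsOpenImmersion j ∧
      x ∈ Set.range (Points.ofPt j) := by
  classical
  let hB := Groth.Agent.AlgSp.LimSepAbs.isTerminalBase (S := S)
  let b : Points X.obj → S := fun z => Points.toScheme (Over.mk (𝟙 S)) (Points.map (hB.from X.obj) z)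
  have hb : ∀ {Y : Over S} (g : (yon S).obj Y ⟶ X.obj) (y : Y.left), b (Points.ofPt g y) = Y.hom y := fun {Y} g y => by
    show Points.toScheme _ (Points.map (hB.from X.obj) (Points.ofPt g y)) = _
    rw [Points.map_ofPt, hB.hom_ext (g ≫ hB.from X.obj) ((yon S).map (Over.homMk Y.hom : Y ⟶ Over.mk (𝟙 S))),
      Points.toScheme_ofPt]
    rfl
  obtain ⟨_, ⟨V, hV, rfl⟩, hxV, -⟩ := S.isBasis_affineOpens.exists_subset_of_mem_open (Set.mem_univ (b x)) isOpen_univ
  have hA : IsOpen (b ⁻¹' (V : Set S)) := by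
    rw [Points.isOpen_iff]
    intro T g
    have e : Points.ofPt g ⁻¹' (b ⁻¹' (V : Set S)) = T.hom ⁻¹' (V : Set S) := by
      ext t
      simp only [Set.mem_preimage, hb]
    rw [e]
    exact V.2.preimage T.hom.continuous
  obtain ⟨X₁, j₁, hj₁, hr₁⟩ := exists_openSubspace X hA
  obtain ⟨hsep₁, hN₁⟩ := sep_of_open j₁ hj₁ hsep hN
  obtain ⟨x₁, rfl⟩ : x ∈ Set.range (Points.map j₁.hom) := by rw [hr₁]; exact hxV
  obtain ⟨X₂, j₂, hj₂, hqc, hjs⟩ := exists_qc_open X₁ {x₁}
  obtain ⟨hsep₂, hN₂⟩ := sep_of_open j₂ hj₂ hsep₁ hN₁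
  obtain ⟨x₂, rfl⟩ := hjs x₁ (Finset.mem_singleton_self x₁)
  obtain ⟨T, a, hT, ha, hle⟩ := exists_affine_qc_over X₂ hsep₂ hN₂ hqc hV (fun {Y} g y => by
      rw [← hb (g ≫ j₂.hom ≫ j₁.hom) y, ← Category.assoc, ← Points.map_ofPt]
      exact (Set.ext_iff.1 hr₁ _).1 ⟨_, rfl⟩) {x₂}
    (fun z hz => by
      rw [Finset.mem_singleton] at hz
      subst hz
      exact hasAt_of_open j₂ hj₂ _ (hasAt_of_open j₁ hj₁ _ hx))
  have hcomp := (repWith_isMultiplicative (S := S) @IsOpenImmersion)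
  refine ⟨T, a ≫ j₂.hom ≫ j₁.hom, hT, hcomp.comp_mem _ _ ha (hcomp.comp_mem _ _ hj₂ hj₁), ?_⟩
  obtain ⟨t, ht⟩ := hle x₂ (Finset.mem_singleton_self x₂)
  exact ⟨t, by rw [← Points.map_ofPt a, ht, Points.map_comp]⟩

end Groth.Agent.AlgSpB.CodimOne
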